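import Groth.Agent.Lib.Ample.GenLocus
import Groth.Prelude.Def_GrTwist
import Mathlib

/-!
# An invertible `O(1)` has, near each point of `Proj`, a generating fraction of degree one
-/

noncomputable section

set_option autoImplicit false

universe u

open CategoryTheory CategoryTheory.Limits AlgebraicGeometry Opposite TopologicalSpace

namespace Groth.Agent.H68.DemazureCone

open Groth.Agent.Lib TensorMod TensorMod.Dual TensorMod.Gen TensorMod.LocIso Ample.GenLocus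

variable {A σ : Type u} [CommRing A] [IsDomain A] [SetLike σ A] [AddSubgroupClass σ A] {𝒜 : ℕ → σ} [GradedRing 𝒜]

theorem exists_gen_frac (hinv : PicF.IsInvertible (GrTwist.twist 𝒜 1)) (x : ProjectiveSpectrum 𝒜) :
    ∃ (m : ℕ) (α s : A), α ∈ 𝒜 (m + 1) ∧ s ∈ 𝒜 m ∧ s ∉ x.asHomogeneousIdeal ∧
      ∀ (k : ℕ) (h t : A), h ∈ 𝒜 (k + 1) → t ∈ 𝒜 k → t ∉ x.asHomogeneousIdeal →
        ∃ (l : ℕ) (n e : A), n ∈ 𝒜 l ∧ e ∈ 𝒜 l ∧ e ∉ x.asHomogeneousIdeal ∧ h * e * s = n * α * t := by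
  classical
  obtain ⟨U, σe, hxU, he⟩ := Gen.isInvertible_iff.1 hinv x
  obtain ⟨W, mW, iW, i, j, a, b, hb, hij, hw⟩ := (σe : GrTwist.sectN (𝒜 := 𝒜) _ (op U)).2 ⟨x, hxU⟩
  have hamem : (a : A) ∈ 𝒜 (j + 1) := by
    rcases hij with h | h
    · have e : i = j + 1 := by omega
      exact e ▸ a.2
    · rw [h]; exact zero_mem _
  refine ⟨j, a, b, hamem, b.2, hb ⟨x, mW⟩, fun k h t hh ht htx => ?_⟩
  let V : (Proj 𝒜).Opens := U ⊓ Proj.basicOpen 𝒜 t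
  have hxV : x ∈ V := ⟨hxU, htx⟩
  have htV : ∀ y : V, t ∉ y.1.asHomogeneousIdeal := fun y => y.2.2
  let sec : GrTwist.sectN (𝒜 := 𝒜) (1 : ℤ) (op V) :=
    ⟨fun y => ⟨Localization.mk h ⟨t, htV y⟩,
      Submodule.subset_span ⟨k + 1, k, ⟨h, hh⟩, ⟨t, ht⟩, htV y, by push_cast; ring, rfl⟩⟩,
      fun y => ⟨V, y.2, 𝟙 _, k + 1, k, ⟨h, hh⟩, ⟨t, ht⟩, htV, Or.inl (by push_cast; ring), fun _ => rfl⟩⟩
  obtain ⟨c, hc⟩ := exists_coord (he.res (inf_le_left : V ≤ U)) (sec : Γ(GrTwist.twist 𝒜 (1 : ℤ), V))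
  obtain ⟨cx, hcx⟩ := HomogeneousLocalization.mk_surjective (((c : GrTwist.O (𝒜 := 𝒜) (op V)).1 ⟨x, hxV⟩))
  have key : Localization.mk h (⟨t, htx⟩ : x.asHomogeneousIdeal.toIdeal.primeCompl) =
      ((c : GrTwist.O (𝒜 := 𝒜) (op V)).1 ⟨x, hxV⟩).val * Localization.mk (a : A) ⟨b, hb ⟨x, mW⟩⟩ := by
    refine (congrArg (fun z => GrTwist.val (V := V) z ⟨x, hxV⟩) hc).trans
      ((GrTwist.coe_smul_val _ x _ _).trans ?_)
    congr 1
    exact hw ⟨x, mW⟩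
  rw [← hcx, HomogeneousLocalization.val_mk, Localization.mk_mul, Localization.mk_eq_mk_iff,
    Localization.r_iff_exists] at key
  obtain ⟨w, hw'⟩ := key
  refine ⟨cx.deg, cx.num, cx.den, cx.num.2, cx.den.2, cx.den_mem, ?_⟩
  have hwne : (w : A) ≠ 0 := fun h0 => w.2 (by rw [h0]; exact zero_mem _)
  simp only [Submonoid.coe_mul] at hw'
  have := mul_left_cancel₀ hwne hw'
  linear_combination this

end Groth.Agent.H68.DemazureCone
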