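import Mathlib

/-!
# A graded domain with a unit of degree one near a point of `Proj` is normal over that point

If the homogeneous localisation at the homogeneous core of a prime `q` is normal and some fraction of degree one
is a unit there, then the localisation at `q` is normal.
-/

set_option autoImplicit false

universe u

open DirectSum Polynomial

namespace Groth.Agent.H68.DemazureCone

variable {k : Type u} [CommRing k] {G : Type u} [CommRing G] [IsDomain G] [Algebra k G]
  (𝒢 : ℕ → Submodule k G) [GradedAlgebra 𝒢]

local notation "qh" q => Ideal.toIdeal (Ideal.homogeneousCore 𝒢 q)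

theorem not_mem_of_not_mem_core {q : Ideal G} {g : G} {n : ℕ} (hg : g ∈ 𝒢 n)
    (h : g ∉ (q.homogeneousCore 𝒢).toIdeal) : g ∉ q :=
  fun hq => h (Ideal.mem_homogeneousCore_of_homogeneous_of_mem ⟨n, hg⟩ hq)

theorem eq_zero_of_sum_homogeneous {ι : Type*} (t : Finset ι) (e : ι → ℕ) (he : Set.InjOn e t) (f : ι → G)
    (hf : ∀ i ∈ t, f i ∈ 𝒢 (e i)) (h : ∑ i ∈ t, f i = 0) : ∀ i ∈ t, f i = 0 := by
  classical
  intro i hi
  have h' := congrArg (fun g => (decompose 𝒢 g (e i) : G)) h
  simp only [decompose_sum, decompose_zero, DirectSum.zero_apply, ZeroMemClass.coe_zero] at h'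
  erw [DFinsupp.finsetSum_apply] at h'
  rw [AddSubmonoidClass.coe_finsetSum] at h'
  rw [Finset.sum_eq_single_of_mem i hi (fun j hj hne =>
    decompose_of_mem_ne 𝒢 (hf j hj) (fun hh => hne (he hj hi hh))), decompose_of_mem_same 𝒢 (hf i hi)] at h'
  exact h'

theorem isIntegrallyClosed_atPrime (q : Ideal G) [hq : q.IsPrime] [hc : (q.homogeneousCore 𝒢).toIdeal.IsPrime]
    {m : ℕ} {a s : G} (ha : a ∈ 𝒢 (m + 1)) (hs : s ∈ 𝒢 m)
    (ha' : a ∉ (q.homogeneousCore 𝒢).toIdeal) (hs' : s ∉ (q.homogeneousCore 𝒢).toIdeal)
    (hT : IsIntegrallyClosed (HomogeneousLocalization.AtPrime 𝒢 (q.homogeneousCore 𝒢).toIdeal)) :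
    IsIntegrallyClosed (Localization.AtPrime q) := by
  classical
  set x := (q.homogeneousCore 𝒢).toIdeal
  let T := HomogeneousLocalization.AtPrime 𝒢 x
  haveI : IsDomain (Localization.AtPrime x) :=
    IsLocalization.isDomain_localization x.primeCompl_le_nonZeroDivisors
  let valHom : T →+* Localization.AtPrime x :=
    algebraMap (HomogeneousLocalization.AtPrime 𝒢 x) (Localization.AtPrime x)
  have hval : ∀ c : T, valHom c = c.val := fun c => rfl
  haveI : IsDomain T := Function.Injective.isDomain valHom fun c d h => HomogeneousLocalization.val_injective _ h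
  let L := FractionRing G
  letI : Algebra (Localization.AtPrime q) L :=
    IsLocalization.localizationAlgebraOfSubmonoidLe (Localization.AtPrime q) L q.primeCompl
      (nonZeroDivisors G) q.primeCompl_le_nonZeroDivisors
  haveI : IsScalarTower G (Localization.AtPrime q) L :=
    IsLocalization.localization_isScalarTower_of_submonoid_le _ _ _ _ _
  haveI : IsFractionRing (Localization.AtPrime q) L :=
    IsFractionRing.isFractionRing_of_isDomain_of_isLocalization q.primeCompl _ L
  letI : Algebra (Localization.AtPrime x) L :=
    IsLocalization.localizationAlgebraOfSubmonoidLe (Localization.AtPrime x) L x.primeCompl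
      (nonZeroDivisors G) x.primeCompl_le_nonZeroDivisors
  haveI : IsScalarTower G (Localization.AtPrime x) L :=
    IsLocalization.localization_isScalarTower_of_submonoid_le _ _ _ _ _
  have hι : Function.Injective (algebraMap (Localization.AtPrime q) L) := IsFractionRing.injective _ _
  have hden : ∀ c : T, c.den ∈ q.primeCompl := fun c =>
    not_mem_of_not_mem_core 𝒢 c.den_mem_deg c.den_mem
  let f : T → Localization.AtPrime q := fun c => IsLocalization.mk' _ c.num (⟨c.den, hden c⟩ : q.primeCompl)
  have hf : ∀ c : T, algebraMap (Localization.AtPrime q) L (f c) =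
      ((algebraMap (Localization.AtPrime x) L).comp valHom) c := by
    intro c
    have h1 : algebraMap (Localization.AtPrime q) L (f c) * algebraMap G L c.den = algebraMap G L c.num := by
      rw [IsScalarTower.algebraMap_apply G (Localization.AtPrime q) L c.den, ← map_mul,
        IsScalarTower.algebraMap_apply G (Localization.AtPrime q) L c.num]
      exact congrArg _ (IsLocalization.mk'_spec _ c.num (⟨c.den, hden c⟩ : q.primeCompl))
    have h2 : ((algebraMap (Localization.AtPrime x) L).comp valHom) c * algebraMap G L c.den =
        algebraMap G L c.num := by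
      rw [RingHom.comp_apply, hval, c.eq_num_div_den, Localization.mk_eq_mk',
        IsScalarTower.algebraMap_apply G (Localization.AtPrime x) L c.den, ← map_mul]
      rw [IsScalarTower.algebraMap_apply G (Localization.AtPrime x) L c.num]
      exact congrArg _ (IsLocalization.mk'_spec (Localization.AtPrime x) c.num ⟨c.den, c.den_mem⟩)
    exact mul_right_cancel₀ (fun h => hden c (by
      rw [IsFractionRing.injective G L (h.trans (map_zero _).symm)]; exact q.zero_mem)) (h1.trans h2.symm)
  let φ : T →+* Localization.AtPrime q :=
    { toFun := f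
      map_one' := hι (by rw [hf, map_one, map_one])
      map_mul' := fun c d => hι (by simp only [hf, map_mul])
      map_zero' := hι (by rw [hf, map_zero, map_zero])
      map_add' := fun c d => hι (by simp only [hf, map_add]) }
  have hsq : s ∈ q.primeCompl := not_mem_of_not_mem_core 𝒢 hs hs'
  have haq : a ∈ q.primeCompl := not_mem_of_not_mem_core 𝒢 ha ha'
  let υ : Localization.AtPrime q := IsLocalization.mk' _ a (⟨s, hsq⟩ : q.primeCompl)
  let ψ : T[X] →+* Localization.AtPrime q := eval₂RingHom φ υ
  have hυ : υ * algebraMap G _ s = algebraMap G _ a := IsLocalization.mk'_spec _ a (⟨s, hsq⟩ : q.primeCompl)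
  have hφ : ∀ c : T, φ c * algebraMap G _ c.den = algebraMap G _ c.num := fun c =>
    IsLocalization.mk'_spec _ c.num (⟨c.den, hden c⟩ : q.primeCompl)
  have halg : Function.Injective (algebraMap G (Localization.AtPrime q)) :=
    IsLocalization.injective _ q.primeCompl_le_nonZeroDivisors
  have hinj : Function.Injective ψ := by
    refine (injective_iff_map_eq_zero ψ).2 fun p hp => ?_
    set I := p.support
    set N := p.natDegree
    have hIN : ∀ i ∈ I, i ≤ N := fun i hi => le_natDegree_of_mem_supp i hi
    let term : ℕ → G := fun i =>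
      (p.coeff i).num * (∏ j ∈ I.erase i, (p.coeff j).den) * a ^ i * s ^ (N - i)
    let e : ℕ → ℕ := fun i =>
      (p.coeff i).deg + (∑ j ∈ I.erase i, (p.coeff j).deg) + i * (m + 1) + (N - i) * m
    have hdeg : ∀ i ∈ I, term i ∈ 𝒢 (e i) := fun i hi =>
      SetLike.mul_mem_graded (SetLike.mul_mem_graded (SetLike.mul_mem_graded (p.coeff i).num_mem_deg
        (SetLike.prod_mem_graded 𝒢 (fun j => (p.coeff j).deg) (fun j => (p.coeff j).den)
          fun j _ => (p.coeff j).den_mem_deg))
        (by simpa using SetLike.pow_mem_graded i ha)) (by simpa using SetLike.pow_mem_graded (N - i) hs)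
    have he : ∀ i ∈ I, e i = (∑ j ∈ I, (p.coeff j).deg) + N * m + i := by
      intro i hi
      obtain ⟨d, hd⟩ := Nat.exists_eq_add_of_le (hIN i hi)
      show (p.coeff i).deg + (∑ j ∈ I.erase i, (p.coeff j).deg) + i * (m + 1) + (N - i) * m = _
      rw [Finset.add_sum_erase I (fun j => (p.coeff j).deg) hi, hd, Nat.add_sub_cancel_left]
      ring
    have hsum : ∑ i ∈ I, term i = 0 := by
      refine halg ?_
      have hp' : ∑ i ∈ I, φ (p.coeff i) * υ ^ i = 0 := by
        simpa [ψ, eval₂_eq_sum, Polynomial.sum_def] using hp
      rw [map_zero, map_sum, ← mul_zero (algebraMap G _ ((∏ j ∈ I, (p.coeff j).den) * s ^ N)), ← hp',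
        Finset.mul_sum]
      refine Finset.sum_congr rfl fun i hi => ?_
      obtain ⟨d, hd⟩ := Nat.exists_eq_add_of_le (hIN i hi)
      rw [← Finset.mul_prod_erase I (fun j => (p.coeff j).den) hi]
      simp only [term, hd, Nat.add_sub_cancel_left, map_mul, map_pow, ← hφ (p.coeff i), ← hυ, mul_pow, pow_add]
      ring
    refine Polynomial.ext fun i => ?_
    rw [coeff_zero]
    by_cases hi : i ∈ I
    · have hz := eq_zero_of_sum_homogeneous 𝒢 I e
        (fun i hi j hj h => by rw [he i hi, he j hj] at h; omega) term hdeg hsum i hi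
      have hane : a ≠ 0 := fun h => haq (h ▸ q.zero_mem)
      have hsne : s ≠ 0 := fun h => hsq (h ▸ q.zero_mem)
      have hpne : ∏ j ∈ I.erase i, (p.coeff j).den ≠ 0 :=
        Finset.prod_ne_zero_iff.2 fun j _ h => hden (p.coeff j) (h ▸ q.zero_mem)
      have hnum : (p.coeff i).num = 0 := by
        simpa [term, hane, hsne, hpne] using hz
      refine HomogeneousLocalization.val_injective _ ?_
      rw [HomogeneousLocalization.eq_num_div_den, hnum, HomogeneousLocalization.val_zero, Localization.mk_zero]
    · exact notMem_support_iff.1 hi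
  have hrange : ∀ g : G, algebraMap G (Localization.AtPrime q) g ∈ ψ.range := by
    intro g
    induction g using DirectSum.Decomposition.inductionOn 𝒢 with
    | zero => exact ⟨0, by simp⟩
    | add g h hg hh => rw [map_add]; exact add_mem hg hh
    | @homogeneous i g =>
      let c : T := HomogeneousLocalization.mk
        { deg := i * (m + 1)
          num := ⟨(g : G) * s ^ i, by
            have h := SetLike.mul_mem_graded g.2 (SetLike.pow_mem_graded i hs)
            rwa [smul_eq_mul, show i + i * m = i * (m + 1) by ring] at h⟩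
          den := ⟨a ^ i, by simpa using SetLike.pow_mem_graded i ha⟩
          den_mem := fun h => ha' (hc.mem_of_pow_mem _ h) }
      refine ⟨C c * X ^ i, ?_⟩
      simp only [ψ, coe_eval₂RingHom, eval₂_mul, eval₂_C, eval₂_X_pow]
      refine hι ?_
      show algebraMap _ L (f c * υ ^ i) = _
      rw [map_mul, hf, RingHom.comp_apply, hval, HomogeneousLocalization.val_mk]
      have hane : algebraMap G L a ≠ 0 := fun h =>
        haq (by rw [IsFractionRing.injective G L (h.trans (map_zero _).symm)]; exact q.zero_mem)
      have hsne : algebraMap G L s ≠ 0 := fun h =>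
        hsq (by rw [IsFractionRing.injective G L (h.trans (map_zero _).symm)]; exact q.zero_mem)
      refine mul_right_cancel₀ (mul_ne_zero (pow_ne_zero i hane) (pow_ne_zero i hsne)) ?_
      have hv : algebraMap (Localization.AtPrime q) L υ * algebraMap G L s = algebraMap G L a := by
        rw [IsScalarTower.algebraMap_apply G (Localization.AtPrime q) L s, ← map_mul, hυ,
          ← IsScalarTower.algebraMap_apply]
      have hm : algebraMap (Localization.AtPrime x) L (Localization.mk ((g : G) * s ^ i)
          ⟨a ^ i, fun h => ha' (hc.mem_of_pow_mem _ h)⟩) * algebraMap G L a ^ i =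
          algebraMap G L g * algebraMap G L s ^ i := by
        rw [Localization.mk_eq_mk', ← map_pow, IsScalarTower.algebraMap_apply G (Localization.AtPrime x) L (a ^ i),
          ← map_mul]
        erw [IsLocalization.mk'_spec]
        rw [← IsScalarTower.algebraMap_apply, map_mul, map_pow]
      have hvp : algebraMap (Localization.AtPrime q) L υ ^ i * algebraMap G L s ^ i = algebraMap G L a ^ i := by
        rw [← mul_pow, hv]
      rw [map_pow, ← IsScalarTower.algebraMap_apply]
      linear_combination (algebraMap (Localization.AtPrime x) L (Localization.mk ((g : G) * s ^ i)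
          ⟨a ^ i, fun h => ha' (hc.mem_of_pow_mem _ h)⟩) * algebraMap G L a ^ i) * hvp +
        algebraMap G L a ^ i * hm
  letI := ψ.toAlgebra
  let P : Ideal T[X] := (IsLocalRing.maximalIdeal (Localization.AtPrime q)).comap ψ
  haveI : IsLocalization P.primeCompl (Localization.AtPrime q) := by
    constructor
    constructor
    · rintro ⟨y, hy⟩
      exact not_not.1 fun h => hy (by
        show ψ y ∈ IsLocalRing.maximalIdeal _
        exact (IsLocalRing.mem_maximalIdeal _).2 h)
    · intro z
      obtain ⟨g, t, rfl⟩ := IsLocalization.exists_mk'_eq q.primeCompl z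
      obtain ⟨pg, hpg⟩ := hrange g
      obtain ⟨pt, hpt⟩ := hrange t
      refine ⟨⟨pg, ⟨pt, fun h => ?_⟩⟩, ?_⟩
      · have hh : ψ pt ∈ IsLocalRing.maximalIdeal _ := h
        rw [hpt] at hh
        exact (IsLocalRing.mem_maximalIdeal _).1 hh (IsLocalization.map_units _ t)
      · show _ * ψ pt = ψ pg
        rw [hpg, hpt]
        exact IsLocalization.mk'_spec _ _ _
    · intro y z h
      exact ⟨1, by rw [hinj h]⟩
  exact isIntegrallyClosed_of_isLocalization (R := T[X]) (Localization.AtPrime q) P.primeCompl
    P.primeCompl_le_nonZeroDivisors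

end Groth.Agent.H68.DemazureCone
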