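import Groth.Agent.H68.DemazureCone.GenFrac
import Groth.Prelude.Def_AssocGr
import Mathlib

/-!
# Invertible `O(1)` on the blowing-up gives units of degree one in the graded ring
-/

noncomputable section

set_option autoImplicit false

universe u

open DirectSum Polynomial AlgebraicGeometry

namespace Groth.Agent.H68.DemazureCone

variable {A : Type u} [CommRing A] (𝓕 : FiltBl.IdealFiltration A)

theorem mul_mem_F {m n : ℕ} {a b : A} (ha : a ∈ 𝓕.F m) (hb : b ∈ 𝓕.F n) : a * b ∈ 𝓕.F (m + n) :=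
  𝓕.mul_le m n (Ideal.mul_mem_mul ha hb)

theorem pow_mem_F {m : ℕ} {a : A} (ha : a ∈ 𝓕.F m) (j : ℕ) : a ^ j ∈ 𝓕.F (j * m) := by
  induction j with
  | zero => rw [zero_mul, 𝓕.zero_eq]; trivial
  | succ j ih => rw [pow_succ, Nat.succ_mul]; exact mul_mem_F 𝓕 ih ha

theorem cls_mul {m n : ℕ} {a b : A} (ha : a ∈ 𝓕.F m) (hb : b ∈ 𝓕.F n) :
    (AssocGr.inDeg 𝓕 m ⟨a, ha⟩ : AssocGr.GrRing 𝓕) * (AssocGr.inDeg 𝓕 n ⟨b, hb⟩ : AssocGr.GrRing 𝓕) =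
      (AssocGr.inDeg 𝓕 (m + n) ⟨a * b, mul_mem_F 𝓕 ha hb⟩ : AssocGr.GrRing 𝓕) :=
  AssocGr.coe_inDeg_mul 𝓕 m n ⟨a, ha⟩ ⟨b, hb⟩

variable [IsDomain (AssocGr.GrRing 𝓕)]

/-- Products of elements of exact order have exact order. -/
theorem mul_notMem {m n : ℕ} {a b : A} (ha : a ∈ 𝓕.F m) (ha' : a ∉ 𝓕.F (m + 1))
    (hb : b ∈ 𝓕.F n) (hb' : b ∉ 𝓕.F (n + 1)) : a * b ∉ 𝓕.F (m + n + 1) := by
  intro h
  have h0 : (AssocGr.inDeg 𝓕 m ⟨a, ha⟩ : AssocGr.GrRing 𝓕) * (AssocGr.inDeg 𝓕 n ⟨b, hb⟩ : AssocGr.GrRing 𝓕) = 0 := by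
    rw [cls_mul, (AssocGr.inDeg_eq_zero_iff 𝓕 (m + n) ⟨a * b, mul_mem_F 𝓕 ha hb⟩).2 h]; rfl
  rcases mul_eq_zero.1 h0 with h' | h'
  · exact ha' ((AssocGr.inDeg_eq_zero_iff 𝓕 m ⟨a, ha⟩).1 (Subtype.ext h'))
  · exact hb' ((AssocGr.inDeg_eq_zero_iff 𝓕 n ⟨b, hb⟩).1 (Subtype.ext h'))

theorem pow_notMem {m : ℕ} {a : A} (ha : a ∈ 𝓕.F m) (ha' : a ∉ 𝓕.F (m + 1)) (j : ℕ) :
    a ^ j ∉ 𝓕.F (j * m + 1) := by
  induction j with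
  | zero =>
    intro h
    have h1 : (1 : A) ∈ 𝓕.F 1 := by simpa using h
    have := (AssocGr.inDeg_eq_zero_iff 𝓕 0 ⟨1, by rw [𝓕.zero_eq]; trivial⟩).2 h1
    have h2 := congrArg Subtype.val this
    rw [← AssocGr.algebraMap_eq, map_one] at h2
    exact one_ne_zero h2
  | succ j ih => rw [pow_succ, Nat.succ_mul]; exact mul_notMem 𝓕 (pow_mem_F 𝓕 ha j) ih ha ha'

/-- Nonzero pieces occur in two consecutive degrees. -/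
theorem exists_consecutive (hr : ∀ r : ℕ, 2 ≤ r → ∃ n : ℕ, ¬ r ∣ n ∧ AssocGr.gr 𝓕 n ≠ ⊥) :
    ∃ n : ℕ, AssocGr.gr 𝓕 n ≠ ⊥ ∧ AssocGr.gr 𝓕 (n + 1) ≠ ⊥ := by
  have hadd : ∀ {i j}, AssocGr.gr 𝓕 i ≠ ⊥ → AssocGr.gr 𝓕 j ≠ ⊥ → AssocGr.gr 𝓕 (i + j) ≠ ⊥ := by
    intro i j hi hj
    obtain ⟨a, ha, ha0⟩ := Submodule.exists_mem_ne_zero_of_ne_bot hi
    obtain ⟨b, hb, hb0⟩ := Submodule.exists_mem_ne_zero_of_ne_bot hj
    exact Submodule.ne_bot_iff _ |>.2 ⟨a * b, SetLike.mul_mem_graded ha hb, mul_ne_zero ha0 hb0⟩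
  have h0 : AssocGr.gr 𝓕 0 ≠ ⊥ :=
    Submodule.ne_bot_iff _ |>.2 ⟨1, SetLike.GradedOne.one_mem, one_ne_zero⟩
  let H : AddSubgroup ℤ :=
    { carrier := {z | ∃ i j : ℕ, AssocGr.gr 𝓕 i ≠ ⊥ ∧ AssocGr.gr 𝓕 j ≠ ⊥ ∧ z = (i : ℤ) - j}
      zero_mem' := ⟨0, 0, h0, h0, by simp⟩
      add_mem' := by
        rintro _ _ ⟨i, j, hi, hj, rfl⟩ ⟨i', j', hi', hj', rfl⟩
        exact ⟨i + i', j + j', hadd hi hi', hadd hj hj', by push_cast; ring⟩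
      neg_mem' := by
        rintro _ ⟨i, j, hi, hj, rfl⟩
        exact ⟨j, i, hj, hi, by ring⟩ }
  obtain ⟨d, hd⟩ := Int.subgroup_cyclic H
  have hdvd : ∀ n, AssocGr.gr 𝓕 n ≠ ⊥ → d.natAbs ∣ n := by
    intro n hn
    have h : (n : ℤ) ∈ AddSubgroup.closure {d} := hd ▸ (⟨n, 0, hn, h0, by simp⟩ : (n : ℤ) ∈ H)
    rw [← AddSubgroup.zmultiples_eq_closure, Int.mem_zmultiples_iff] at h
    exact Int.natAbs_dvd_natAbs.2 h |>.trans (by simp)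
  have h1 : d.natAbs = 1 := by
    rcases Nat.lt_or_ge d.natAbs 2 with h | h
    · rcases Nat.eq_zero_or_pos d.natAbs with h' | h'
      · obtain ⟨n, hn2, hn⟩ := hr 2 le_rfl
        have := hdvd n hn
        rw [h', zero_dvd_iff] at this
        exact absurd (this ▸ dvd_zero 2) hn2
      · omega
    · obtain ⟨n, hnd, hn⟩ := hr _ h
      exact absurd (hdvd n hn) hnd
  have hmem : (1 : ℤ) ∈ H := by
    rw [hd, ← AddSubgroup.zmultiples_eq_closure, Int.mem_zmultiples_iff]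
    exact Int.natAbs_dvd.1 (by rw [h1]; simp)
  obtain ⟨i, j, hi, hj, hij⟩ := hmem
  exact ⟨j, hj, by rwa [show j + 1 = i by omega]⟩

/-- Near a prime not containing the irrelevant ideal there is a unit of degree one. -/
theorem exists_degree_one_unit [IsDomain A]
    (hr : ∀ r : ℕ, 2 ≤ r → ∃ n : ℕ, ¬ r ∣ n ∧ AssocGr.gr 𝓕 n ≠ ⊥)
    (hcart : PicF.IsInvertible (GrTwist.twist (Rees.deg 𝓕.rees) 1))
    (q : Ideal (AssocGr.GrRing 𝓕)) [hq : q.IsPrime] (hhom : q.IsHomogeneous (AssocGr.gr 𝓕))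
    (hnot : ¬ (HomogeneousIdeal.irrelevant (AssocGr.gr 𝓕)).toIdeal ≤ q) :
    ∃ (m : ℕ) (a s : AssocGr.GrRing 𝓕), a ∈ AssocGr.gr 𝓕 (m + 1) ∧ s ∈ AssocGr.gr 𝓕 m ∧ a ∉ q ∧ s ∉ q := by
  classical
  -- a homogeneous element of positive degree outside `q`
  obtain ⟨d, g, hdpos, hg, hgq⟩ : ∃ (d : ℕ) (g : A) (_ : 0 < d) (hg : g ∈ 𝓕.F d),
      (AssocGr.inDeg 𝓕 d ⟨g, hg⟩ : AssocGr.GrRing 𝓕) ∉ q := by
    obtain ⟨z, hz, hzq⟩ := SetLike.not_le_iff_exists.1 hnot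
    obtain ⟨d, hd⟩ : ∃ d, (decompose (AssocGr.gr 𝓕) z d : AssocGr.GrRing 𝓕) ∉ q := by
      by_contra hcon
      push_neg at hcon
      exact hzq (by rw [← sum_support_decompose (AssocGr.gr 𝓕) z]; exact Ideal.sum_mem _ fun i _ => hcon i)
    have hd0 : 0 < d := by
      by_contra h
      obtain rfl : d = 0 := by omega
      have h' := (HomogeneousIdeal.mem_irrelevant_iff (AssocGr.gr 𝓕) z).1 hz
      rw [GradedRing.proj_apply] at h'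
      exact hd (by rw [h']; exact q.zero_mem)
    obtain ⟨g, hg⟩ := AssocGr.inDeg_surjective 𝓕 d (decompose (AssocGr.gr 𝓕) z d)
    exact ⟨d, g, hd0, g.2, by rw [Subtype.coe_eta, hg]; exact hd⟩
  -- the point of the blowing-up
  let J : Ideal 𝓕.rees := q.comap (AssocGr.mkG 𝓕)
  have hJ : J.IsHomogeneous (Rees.deg 𝓕.rees) := fun i r hr => by
    show AssocGr.mkG 𝓕 (decompose (Rees.deg 𝓕.rees) r i : 𝓕.rees) ∈ q
    rw [← AssocGr.coe_decompose_mkG]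
    exact hhom i hr
  let x : ProjectiveSpectrum (Rees.deg 𝓕.rees) :=
    ⟨⟨J, hJ⟩, Ideal.IsPrime.comap _, fun h => by
      have hm : ((AssocGr.monom 𝓕 d ⟨g, hg⟩ : Rees.deg 𝓕.rees d) : 𝓕.rees) ∈
          (HomogeneousIdeal.irrelevant (Rees.deg 𝓕.rees)).toIdeal := by
        refine (HomogeneousIdeal.mem_irrelevant_iff (Rees.deg 𝓕.rees) _).2 ?_
        rw [GradedRing.proj_apply]
        exact decompose_of_mem_ne _ (AssocGr.monom 𝓕 d ⟨g, hg⟩).2 hdpos.ne'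
      exact hgq (h hm)⟩
  obtain ⟨m, α, s, hα, hs, hsx, hgen⟩ := exists_gen_frac hcart x
  obtain ⟨⟨α, hαF⟩, hα'⟩ := AssocGr.monom_surjective 𝓕 (m + 1) ⟨α, hα⟩
  obtain ⟨⟨s, hsF⟩, hs'⟩ := AssocGr.monom_surjective 𝓕 m ⟨s, hs⟩
  obtain rfl := congrArg Subtype.val hα'
  obtain rfl := congrArg Subtype.val hs'
  -- elements whose class avoids `q`
  have good : ∀ {k : ℕ} {t : A} (ht : t ∈ 𝓕.F k), (AssocGr.inDeg 𝓕 k ⟨t, ht⟩ : AssocGr.GrRing 𝓕) ∉ q →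
      t ∉ 𝓕.F (k + 1) := fun ht h h' =>
    h (by rw [(AssocGr.inDeg_eq_zero_iff 𝓕 _ ⟨_, ht⟩).2 h']; exact q.zero_mem)
  have good0 : ∀ {k : ℕ} {t : A} (ht : t ∈ 𝓕.F k), (AssocGr.inDeg 𝓕 k ⟨t, ht⟩ : AssocGr.GrRing 𝓕) ∉ q →
      t ≠ 0 := fun ht h h' => good ht h (by rw [h']; exact Ideal.zero_mem _)
  -- the generating property in `A`
  have gen : ∀ (k : ℕ) (h t : A), h ∈ 𝓕.F (k + 1) → ∀ ht : t ∈ 𝓕.F k,
      (AssocGr.inDeg 𝓕 k ⟨t, ht⟩ : AssocGr.GrRing 𝓕) ∉ q →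
      ∃ (l : ℕ) (n e : A) (_ : n ∈ 𝓕.F l) (he : e ∈ 𝓕.F l),
        (AssocGr.inDeg 𝓕 l ⟨e, he⟩ : AssocGr.GrRing 𝓕) ∉ q ∧ h * e * s = n * α * t := by
    intro k h t hh ht htq
    obtain ⟨l, n, e, hn, he, hex, heq⟩ := hgen k _ _ (AssocGr.monom 𝓕 (k + 1) ⟨h, hh⟩).2
      (AssocGr.monom 𝓕 k ⟨t, ht⟩).2 htq
    obtain ⟨⟨n, hnF⟩, hn'⟩ := AssocGr.monom_surjective 𝓕 l ⟨n, hn⟩
    obtain ⟨⟨e, heF⟩, he'⟩ := AssocGr.monom_surjective 𝓕 l ⟨e, he⟩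
    obtain rfl := congrArg Subtype.val hn'
    obtain rfl := congrArg Subtype.val he'
    refine ⟨l, n, e, hnF, heF, hex, ?_⟩
    have h1 := congrArg (fun r : 𝓕.rees => (r : A[X])) heq
    simp only [Subalgebra.coe_mul, AssocGr.coe_coe_monom, monomial_mul_monomial] at h1
    have h2 := congrArg (fun p : A[X] => p.coeff (k + 1 + l + m)) h1
    simp only [coeff_monomial] at h2
    rwa [if_pos trivial, if_pos (by omega)] at h2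
  have hsq : (AssocGr.inDeg 𝓕 m ⟨s, hsF⟩ : AssocGr.GrRing 𝓕) ∉ q := hsx
  -- the generator has exact order
  obtain ⟨k₀, hk₀, hk₁⟩ := exists_consecutive 𝓕 hr
  obtain ⟨h₁, t₁, hh₁, hh₁', ht₁, ht₁q⟩ : ∃ (h₁ t₁ : A) (hh : h₁ ∈ 𝓕.F (k₀ * d + 1))
      (_ : h₁ ∉ 𝓕.F (k₀ * d + 1 + 1)) (ht : t₁ ∈ 𝓕.F (k₀ * d)),
      (AssocGr.inDeg 𝓕 (k₀ * d) ⟨t₁, ht⟩ : AssocGr.GrRing 𝓕) ∉ q := by
    obtain ⟨y, hy, hy0⟩ := Submodule.exists_mem_ne_zero_of_ne_bot hk₁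
    obtain ⟨z, hz, hz0⟩ := Submodule.exists_mem_ne_zero_of_ne_bot hk₀
    obtain ⟨⟨y', hy'F⟩, hy'⟩ := AssocGr.inDeg_surjective 𝓕 (k₀ + 1) ⟨y, hy⟩
    obtain ⟨⟨z', hz'F⟩, hz'⟩ := AssocGr.inDeg_surjective 𝓕 k₀ ⟨z, hz⟩
    have hy'' : y' ∉ 𝓕.F (k₀ + 1 + 1) := fun h => hy0
      ((congrArg Subtype.val (hy'.symm.trans ((AssocGr.inDeg_eq_zero_iff 𝓕 _ ⟨y', hy'F⟩).2 h))).trans rfl)
    have hz'' : z' ∉ 𝓕.F (k₀ + 1) := fun h => hz0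
      ((congrArg Subtype.val (hz'.symm.trans ((AssocGr.inDeg_eq_zero_iff 𝓕 _ ⟨z', hz'F⟩).2 h))).trans rfl)
    have hpow : ∀ j, (AssocGr.inDeg 𝓕 (j * d) ⟨g ^ j, pow_mem_F 𝓕 hg j⟩ : AssocGr.GrRing 𝓕) ∉ q := by
      intro j
      have : (AssocGr.inDeg 𝓕 (j * d) ⟨g ^ j, pow_mem_F 𝓕 hg j⟩ : AssocGr.GrRing 𝓕) =
          (AssocGr.inDeg 𝓕 d ⟨g, hg⟩ : AssocGr.GrRing 𝓕) ^ j := by
        rw [AssocGr.coe_inDeg, AssocGr.coe_inDeg, ← map_pow]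
        congr 1
        refine Subtype.ext ?_
        simp only [SubmonoidClass.coe_pow, AssocGr.coe_coe_monom, monomial_pow, mul_comm d j]
      rw [this]
      exact fun h => hgq (hq.mem_of_pow_mem _ h)
    obtain ⟨c, hc⟩ := Nat.exists_eq_add_of_le (show 1 ≤ d by omega)
    have e1 : k₀ + 1 + c * k₀ = k₀ * d + 1 := by rw [hc]; ring
    have h1 := mul_mem_F 𝓕 hy'F (pow_mem_F 𝓕 hz'F c)
    have h2 := mul_notMem 𝓕 hy'F hy'' (pow_mem_F 𝓕 hz'F c) (pow_notMem 𝓕 hz'F hz'' c)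
    rw [e1] at h1 h2
    exact ⟨y' * z' ^ c, g ^ k₀, h1, h2, _, hpow k₀⟩
  have hαex : α ∉ 𝓕.F (m + 1 + 1) := by
    intro hα2
    obtain ⟨l, n, e, hn, he, heq', heqn⟩ := gen _ _ _ hh₁ ht₁ ht₁q
    refine mul_notMem 𝓕 (mul_mem_F 𝓕 hh₁ he) (mul_notMem 𝓕 hh₁ hh₁' he (good he heq')) hsF (good hsF hsq) ?_
    rw [heqn]
    exact (show k₀ * d + 1 + l + m + 1 = l + (m + 1 + 1) + k₀ * d by omega) ▸
      mul_mem_F 𝓕 (mul_mem_F 𝓕 hn hα2) ht₁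
  -- every degree is generated by powers of the generator
  have pw : ∀ (j k : ℕ) (h t : A), h ∈ 𝓕.F (k + j) → ∀ ht : t ∈ 𝓕.F k,
      (AssocGr.inDeg 𝓕 k ⟨t, ht⟩ : AssocGr.GrRing 𝓕) ∉ q →
      ∃ (l : ℕ) (n e : A) (_ : n ∈ 𝓕.F l) (he : e ∈ 𝓕.F l),
        (AssocGr.inDeg 𝓕 l ⟨e, he⟩ : AssocGr.GrRing 𝓕) ∉ q ∧ h * e * s ^ j = n * α ^ j * t := by
    intro j
    induction j with
    | zero => intro k h t hh ht htq; exact ⟨k, h, t, hh, ht, htq, by ring⟩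
    | succ j ih =>
      intro k h t hh ht htq
      obtain ⟨l, n, e, hn, he, heq', heqn⟩ := ih k h t (𝓕.antitone (by omega) hh) ht htq
      have hn1 : n ∈ 𝓕.F (l + 1) := by
        by_contra hn1
        refine mul_notMem 𝓕 (mul_mem_F 𝓕 hn (pow_mem_F 𝓕 hαF j))
          (mul_notMem 𝓕 hn hn1 (pow_mem_F 𝓕 hαF j) (pow_notMem 𝓕 hαF hαex j)) ht (good ht htq) ?_
        rw [← heqn]
        refine 𝓕.antitone ?_ (mul_mem_F 𝓕 (mul_mem_F 𝓕 hh he) (pow_mem_F 𝓕 hsF j))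
        rw [Nat.mul_succ]; omega
      obtain ⟨l', n', e', hn', he', heq'', heqn'⟩ := gen l n e hn1 he heq'
      refine ⟨l', n', e', hn', he', heq'', ?_⟩
      have he0 : e ≠ 0 := good0 he heq'
      refine mul_left_cancel₀ he0 ?_
      linear_combination (s * e') * heqn + (α ^ j * t) * heqn'
  -- apply this to `g`
  obtain ⟨l, n, e, hn, he, heq', heqn⟩ := pw d 0 g 1 (by rwa [zero_add]) (by rw [𝓕.zero_eq]; trivial)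
    (by rw [← AssocGr.algebraMap_eq, map_one]; exact fun h => hq.ne_top ((Ideal.eq_top_iff_one _).2 h))
  refine ⟨m, _, _, (AssocGr.inDeg 𝓕 (m + 1) ⟨α, hαF⟩).2, (AssocGr.inDeg 𝓕 m ⟨s, hsF⟩).2, fun hαq => ?_, hsq⟩
  have hcls : ((AssocGr.inDeg 𝓕 d ⟨g, hg⟩ : AssocGr.GrRing 𝓕) * (AssocGr.inDeg 𝓕 l ⟨e, he⟩ : AssocGr.GrRing 𝓕)) *
      (AssocGr.inDeg 𝓕 m ⟨s, hsF⟩ : AssocGr.GrRing 𝓕) ^ d =
      (AssocGr.inDeg 𝓕 l ⟨n, hn⟩ : AssocGr.GrRing 𝓕) * (AssocGr.inDeg 𝓕 (m + 1) ⟨α, hαF⟩ : AssocGr.GrRing 𝓕) ^ d := by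
    simp only [AssocGr.coe_inDeg, ← map_pow, ← map_mul]
    congr 1
    refine Subtype.ext ?_
    simp only [Subalgebra.coe_mul, SubmonoidClass.coe_pow, AssocGr.coe_coe_monom, monomial_pow,
      monomial_mul_monomial]
    rw [show d + l + m * d = l + (m + 1) * d by ring]
    congr 1
    linear_combination heqn
  have hmem : (AssocGr.inDeg 𝓕 d ⟨g, hg⟩ : AssocGr.GrRing 𝓕) * (AssocGr.inDeg 𝓕 l ⟨e, he⟩ : AssocGr.GrRing 𝓕) *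
      (AssocGr.inDeg 𝓕 m ⟨s, hsF⟩ : AssocGr.GrRing 𝓕) ^ d ∈ q := by
    rw [hcls]
    exact q.mul_mem_left _ (Ideal.pow_mem_of_mem q hαq d hdpos)
  rcases hq.mem_or_mem hmem with h | h
  · exact (hq.mem_or_mem h).elim hgq heq'
  · exact hsq (hq.mem_of_pow_mem _ h)

end Groth.Agent.H68.DemazureCone
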